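import Mathlib

/-!
Finite projective modules over a ring complete for a filtration by ideals `K n`.
-/

set_option autoImplicit false
universe u v

namespace Groth.Agent.FiltProjLib

set_option maxHeartbeats 400000

variable {A : Type u} [CommRing A]

/-- Maps out of a module which is projective modulo `I` lift along surjections of `I`-killed modules. -/
theorem exists_lift_killed {I : Ideal A} {Q : Type*} [AddCommGroup Q] [Module A Q]
    [Module (A ⧸ I) Q] [IsScalarTower A (A ⧸ I) Q] [Module.Projective (A ⧸ I) Q]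
    {X Y : Type*} [AddCommGroup X] [Module A X] [AddCommGroup Y] [Module A Y]
    (hX : ∀ a ∈ I, ∀ x : X, a • x = 0) (f : X →ₗ[A] Y) (g : Q →ₗ[A] Y)
    (hg : ∀ q, g q ∈ LinearMap.range f) : ∃ h : Q →ₗ[A] X, f ∘ₗ h = g := by
  have tX : Module.IsTorsionBySet A X I := fun x a => hX a a.2 x
  have tY : Module.IsTorsionBySet A (LinearMap.range f) I := by
    rintro ⟨_, x, rfl⟩ a
    exact Subtype.ext (by rw [Submodule.coe_smul, ← map_smul, hX a a.2 x, map_zero]; rfl)
  let := tX.module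
  let := tY.module
  have : IsScalarTower A (A ⧸ I) X := tX.isScalarTower
  have : IsScalarTower A (A ⧸ I) (LinearMap.range f) := tY.isScalarTower
  let f' := f.rangeRestrict.extendScalarsOfSurjective (S := A ⧸ I) Ideal.Quotient.mk_surjective
  let g' := (g.codRestrict _ hg).extendScalarsOfSurjective (S := A ⧸ I) Ideal.Quotient.mk_surjective
  obtain ⟨h, hh⟩ := Module.projective_lifting_property f' g' f.surjective_rangeRestrict
  exact ⟨h.restrictScalars A, LinearMap.ext fun q => congrArg Subtype.val (LinearMap.congr_fun hh q)⟩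

variable {P : Type v} [AddCommGroup P] [Module A P] {k : ℕ}

/-- The map `(A/I)^k → P/IP` given by `k` elements of `P`. -/
noncomputable def comb (I : Ideal A) (g : Fin k → P) :
    (Fin k → A ⧸ I) →ₗ[A] P ⧸ (I • ⊤ : Submodule A P) :=
  LinearMap.lsum A (fun _ => A ⧸ I) A fun i =>
    Submodule.mapQ I (I • ⊤ : Submodule A P) (LinearMap.toSpanSingleton A P (g i))
      fun _ ha => Submodule.smul_mem_smul ha trivial

lemma comb_mk (I : Ideal A) (g : Fin k → P) (c : Fin k → A) :
    comb I g (fun i => Ideal.Quotient.mk I (c i)) = Submodule.Quotient.mk (∑ i, c i • g i) := by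
  rw [comb, LinearMap.lsum_apply, LinearMap.sum_apply, ← Submodule.mkQ_apply, map_sum]
  exact Finset.sum_congr rfl fun i _ => rfl

variable (K : ℕ → Ideal A) (hK : Antitone K)

/-- Reduction from level `n + 1` to level `n`. -/
noncomputable def red (n : ℕ) : (Fin k → A ⧸ K (n + 1)) →ₗ[A] (Fin k → A ⧸ K n) :=
  LinearMap.pi fun i => (Submodule.factor (hK n.le_succ)) ∘ₗ LinearMap.proj i

lemma exists_fg_of_quotient (I : Ideal A)
    [Module.Finite (A ⧸ I) (P ⧸ (I • ⊤ : Submodule A P))] :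
    ∃ (k : ℕ) (g : Fin k → P), Submodule.span A (Set.range g) ⊔ I • ⊤ = ⊤ := by
  have : Module.Finite A (P ⧸ (I • ⊤ : Submodule A P)) := Module.Finite.trans (A ⧸ I) _
  obtain ⟨k, y, hy⟩ := Module.Finite.exists_fin (R := A) (M := P ⧸ (I • ⊤ : Submodule A P))
  choose g hg using fun i => Submodule.mkQ_surjective (I • ⊤ : Submodule A P) (y i)
  refine ⟨k, g, ?_⟩
  have hm : (Submodule.span A (Set.range g)).map (I • ⊤ : Submodule A P).mkQ = ⊤ := by
    rw [Submodule.map_span, ← Set.range_comp, show (I • ⊤ : Submodule A P).mkQ ∘ g = y from funext hg, hy]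
  have h := congrArg (Submodule.comap (I • ⊤ : Submodule A P).mkQ) hm
  rwa [Submodule.comap_map_eq, Submodule.comap_top, Submodule.ker_mkQ] at h

lemma span_sup_pow_smul {N : Submodule A P} {I : Ideal A} (h : N ⊔ I • ⊤ = ⊤) :
    ∀ m : ℕ, N ⊔ I ^ m • ⊤ = ⊤
  | 0 => by simp
  | m + 1 => by
    refine eq_top_iff.2 ((span_sup_pow_smul h m).ge.trans (sup_le le_sup_left ?_))
    calc I ^ m • (⊤ : Submodule A P) = I ^ m • (N ⊔ I • ⊤) := by rw [h]
      _ ≤ N ⊔ I ^ (m + 1) • ⊤ := by
        rw [Submodule.smul_sup, ← Submodule.smul_assoc, pow_succ, smul_eq_mul]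
        exact sup_le_sup_right Submodule.smul_le_right _

lemma exists_coeffs {I : Ideal A} {g : Fin k → P} {y : P}
    (hy : y ∈ I • Submodule.span A (Set.range g)) :
    ∃ d : Fin k → A, (∀ i, d i ∈ I) ∧ ∑ i, d i • g i = y := by
  refine Submodule.smul_induction_on
    (p := fun y => ∃ d : Fin k → A, (∀ i, d i ∈ I) ∧ ∑ i, d i • g i = y) hy (fun a ha z hz => ?_) ?_
  · obtain ⟨c, rfl⟩ := (Submodule.mem_span_range_iff_exists_fun A).1 hz
    refine ⟨fun i => a * c i, fun i => I.mul_mem_right _ ha, ?_⟩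
    rw [Finset.smul_sum]
    simp only [mul_smul]
  · rintro _ _ ⟨d, hd, rfl⟩ ⟨e, he, rfl⟩
    exact ⟨d + e, fun i => add_mem (hd i) (he i), by simp [add_smul, Finset.sum_add_distrib]⟩

include hK in
lemma exists_preimage {g : Fin k → P} {n : ℕ}
    (hg : Submodule.span A (Set.range g) ⊔ K (n + 1) • ⊤ = ⊤) (x : P) (t : Fin k → A ⧸ K n)
    (ht : comb (K n) g t = Submodule.Quotient.mk x) :
    ∃ w, comb (K (n + 1)) g w = Submodule.Quotient.mk x ∧ red K hK n w = t := by
  choose c hc using fun i => Ideal.Quotient.mk_surjective (t i)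
  have h1 : x - ∑ i, c i • g i ∈ (K n • ⊤ : Submodule A P) := by
    rw [← Submodule.Quotient.eq, ← comb_mk, funext hc, ht]
  rw [← hg, Submodule.smul_sup] at h1
  obtain ⟨y, hy, z, hz, hyz⟩ := Submodule.mem_sup.1 h1
  obtain ⟨d, hd, rfl⟩ := exists_coeffs hy
  refine ⟨fun i => Ideal.Quotient.mk _ (c i + d i), ?_, funext fun i => ?_⟩
  · have hz' : z ∈ (K (n + 1) • ⊤ : Submodule A P) := Submodule.smul_le_right hz
    have e : (∑ i, (c i + d i) • g i) - x = -z := by
      simp only [add_smul, Finset.sum_add_distrib]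
      rw [show x = ∑ i, c i • g i + ((∑ i, d i • g i) + z) by rw [hyz]; abel]
      abel
    rw [comb_mk, Submodule.Quotient.eq, e]
    exact neg_mem hz'
  · rw [← hc i]
    exact Ideal.Quotient.eq.2 (by simpa using hd i)

lemma killed_pi (I : Ideal A) (a : A) (ha : a ∈ I) (x : Fin k → A ⧸ I) : a • x = 0 := funext fun i => by
  obtain ⟨c, hc⟩ := Ideal.Quotient.mk_surjective (x i)
  rw [Pi.smul_apply, ← hc, Algebra.smul_def, Ideal.Quotient.algebraMap_eq, ← map_mul]
  exact Ideal.Quotient.eq_zero_iff_mem.2 (Ideal.mul_mem_right _ _ ha)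

include hK in
lemma exists_step {g : Fin k → P} {n : ℕ}
    [Module.Projective (A ⧸ K (n + 1)) (P ⧸ (K (n + 1) • ⊤ : Submodule A P))]
    (hg : Submodule.span A (Set.range g) ⊔ K (n + 1) • ⊤ = ⊤)
    (s : P ⧸ (K n • ⊤ : Submodule A P) →ₗ[A] (Fin k → A ⧸ K n))
    (hs : ∀ q, comb (K n) g (s q) = q) :
    ∃ s' : P ⧸ (K (n + 1) • ⊤ : Submodule A P) →ₗ[A] (Fin k → A ⧸ K (n + 1)),
      (∀ q, comb (K (n + 1)) g (s' q) = q) ∧
      ∀ x : P, red K hK n (s' (Submodule.Quotient.mk x)) = s (Submodule.Quotient.mk x) := by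
  let pr := Submodule.factor (show (K (n + 1) • ⊤ : Submodule A P) ≤ K n • ⊤ from
    Submodule.smul_mono_left (hK n.le_succ))
  obtain ⟨s', hs'⟩ := exists_lift_killed (I := K (n + 1)) (killed_pi _)
    ((comb (K (n + 1)) g).prod (red K hK n)) (LinearMap.id.prod (s ∘ₗ pr)) fun q => by
      obtain ⟨x, rfl⟩ := Submodule.mkQ_surjective _ q
      obtain ⟨w, hw1, hw2⟩ := exists_preimage K hK hg x _ (hs _)
      exact ⟨w, Prod.ext hw1 hw2⟩
  exact ⟨s', fun q => congrArg Prod.fst (LinearMap.congr_fun hs' q),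
    fun x => congrArg Prod.snd (LinearMap.congr_fun hs' (Submodule.Quotient.mk x))⟩

include hK in
/-- Finite projective modules are detected on the quotients. -/
theorem finite_projective_of_quotients (hbot : ∀ x : A, (∀ n, x ∈ K n) → x = 0)
    (hprec : ∀ a : ℕ → A, (∀ n, a (n + 1) - a n ∈ K n) → ∃ L, ∀ n, L - a n ∈ K n)
    (hnil : ∀ n, ∃ m, K 1 ^ m ≤ K n)
    (hP : ∀ x : P, (∀ n, x ∈ (K n • ⊤ : Submodule A P)) → x = 0)
    [hf : Module.Finite (A ⧸ K 1) (P ⧸ (K 1 • ⊤ : Submodule A P))]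
    [hp : ∀ n, Module.Projective (A ⧸ K n) (P ⧸ (K n • ⊤ : Submodule A P))] :
    Module.Finite A P ∧ Module.Projective A P := by
  obtain ⟨k, g, hg⟩ := exists_fg_of_quotient (P := P) (K 1)
  let N := Submodule.span A (Set.range g)
  have hgn : ∀ n, N ⊔ K n • ⊤ = ⊤ := fun n => by
    obtain ⟨m, hm⟩ := hnil n
    exact eq_top_iff.2 ((span_sup_pow_smul hg m).ge.trans (sup_le_sup_left (Submodule.smul_mono_left hm) N))
  have hsurj : ∀ n, Function.Surjective (comb (K n) g) := fun n q => by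
    obtain ⟨q, rfl⟩ := Submodule.mkQ_surjective _ q
    obtain ⟨y, hy, z, hz, rfl⟩ := Submodule.mem_sup.1 ((hgn n).ge (Submodule.mem_top (x := q)))
    obtain ⟨c, rfl⟩ := (Submodule.mem_span_range_iff_exists_fun A).1 hy
    refine ⟨fun i => Ideal.Quotient.mk _ (c i), ?_⟩
    rw [comb_mk, Submodule.mkQ_apply, Submodule.Quotient.eq]
    simpa using hz
  have step := fun n => exists_step K hK (n := n) (hgn (n + 1))
  obtain ⟨s₀, hs₀⟩ : ∃ s : P ⧸ (K 0 • ⊤ : Submodule A P) →ₗ[A] (Fin k → A ⧸ K 0),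
      (comb (K 0) g) ∘ₗ s = LinearMap.id :=
    exists_lift_killed (I := K 0) (killed_pi _)
      (comb (K 0) g) LinearMap.id fun q => hsurj 0 q
  let S : ∀ n, {s : P ⧸ (K n • ⊤ : Submodule A P) →ₗ[A] (Fin k → A ⧸ K n) //
      ∀ q, comb (K n) g (s q) = q} := fun n =>
    Nat.rec ⟨s₀, LinearMap.congr_fun hs₀⟩
      (fun m s => ⟨(step m s.1 s.2).choose, (step m s.1 s.2).choose_spec.1⟩) n
  have hS : ∀ n (x : P), red K hK n ((S (n + 1)).1 (Submodule.Quotient.mk x)) =
      (S n).1 (Submodule.Quotient.mk x) := fun n => (step n (S n).1 (S n).2).choose_spec.2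
  choose a ha using fun (n : ℕ) (x : P) (i : Fin k) =>
    Ideal.Quotient.mk_surjective ((S n).1 (Submodule.Quotient.mk x) i)
  have hcomp : ∀ x i n, a (n + 1) x i - a n x i ∈ K n := fun x i n => by
    rw [← Ideal.Quotient.eq, ha n, ← hS n x, ← Ideal.Quotient.factor_mk (hK n.le_succ), ha (n + 1)]
    rfl
  choose σ hσ using fun (x : P) (i : Fin k) => hprec (fun n => a n x i) (hcomp x i)
  have hσ' : ∀ x i n, Ideal.Quotient.mk (K n) (σ x i) = (S n).1 (Submodule.Quotient.mk x) i :=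
    fun x i n => (Ideal.Quotient.eq.2 (hσ x i n)).trans (ha n x i)
  have hext : ∀ u v : A, (∀ n, Ideal.Quotient.mk (K n) u = Ideal.Quotient.mk (K n) v) → u = v :=
    fun u v h => sub_eq_zero.1 (hbot _ fun n => Ideal.Quotient.eq.1 (h n))
  let σ' : P →ₗ[A] (Fin k → A) :=
    { toFun := σ
      map_add' := fun x y => funext fun i => hext _ _ fun n => by
        rw [Pi.add_apply, map_add, hσ', hσ', hσ', Submodule.Quotient.mk_add, map_add, Pi.add_apply]
      map_smul' := fun r x => funext fun i => hext _ _ fun n => by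
        rw [RingHom.id_apply, Pi.smul_apply, smul_eq_mul, map_mul, hσ', hσ', Submodule.Quotient.mk_smul,
          map_smul, Pi.smul_apply, Algebra.smul_def, Ideal.Quotient.algebraMap_eq] }
  let π : (Fin k → A) →ₗ[A] P := Fintype.linearCombination A g
  have hπσ : π ∘ₗ σ' = LinearMap.id := LinearMap.ext fun x => sub_eq_zero.1 (hP _ fun n => by
    rw [← Submodule.Quotient.eq, LinearMap.comp_apply, LinearMap.id_apply,
      Fintype.linearCombination_apply, ← comb_mk]
    rw [show (fun i => Ideal.Quotient.mk (K n) (σ' x i)) = (S n).1 (Submodule.Quotient.mk x) from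
      funext fun i => hσ' x i n]
    exact (S n).2 _)
  exact ⟨Module.Finite.of_surjective π fun x => ⟨σ' x, LinearMap.congr_fun hπσ x⟩,
    Module.Projective.of_split σ' π hπσ⟩

end Groth.Agent.FiltProjLib
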