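import Mathlib

/-!
Lifting finite projective modules along a surjection with topologically nilpotent kernel out of a
ring complete for a filtration.
-/

set_option autoImplicit false
universe u v

namespace Groth.Agent.FiltProjLib

set_option maxHeartbeats 400000

variable {A : Type u} [CommRing A]

lemma matrix_isNilpotent {R : Type u} [CommRing R] {k : ℕ} (M : Matrix (Fin k) (Fin k) R)
    (h : ∀ i j, IsNilpotent (M i j)) : IsNilpotent M := by
  let I : Ideal R := Ideal.span (Set.range fun p : Fin k × Fin k => M p.1 p.2)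
  have hI : I.FG := Submodule.fg_span (Set.finite_range _)
  obtain ⟨m, hm⟩ := (Ideal.FG.isNilpotent_iff_le_nilradical hI).2 (Ideal.span_le.2 fun _ ⟨p, hp⟩ =>
    hp ▸ h p.1 p.2)
  have key : ∀ n i j, (M ^ n) i j ∈ I ^ n := by
    intro n
    induction n with
    | zero => intro i j; simp
    | succ n ih =>
      intro i j
      rw [pow_succ, pow_succ, Matrix.mul_apply]
      exact Ideal.sum_mem _ fun l _ => Ideal.mul_mem_mul (ih i l) (Ideal.subset_span ⟨(l, j), rfl⟩)
  exact ⟨m, Matrix.ext fun i j => (Ideal.mem_bot).1 (hm ▸ key m i j :)⟩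

/-- An idempotent matrix modulo `L` lifts modulo `K'` when `L` is nil modulo `K'`. -/
lemma exists_idem_lift {k : ℕ} {L K' : Ideal A} (hle : K' ≤ L) (hnil : ∀ x ∈ L, ∃ N : ℕ, x ^ N ∈ K')
    (M : Matrix (Fin k) (Fin k) A) (hM : ∀ i j, (M * M - M) i j ∈ L) :
    ∃ E : Matrix (Fin k) (Fin k) A, (∀ i j, (E * E - E) i j ∈ K') ∧ ∀ i j, (E - M) i j ∈ L := by
  let f := (Ideal.Quotient.factor hle).mapMatrix (m := Fin k)
  have hker : ∀ x ∈ RingHom.ker f, IsNilpotent x := fun x hx => matrix_isNilpotent x fun i j => by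
    obtain ⟨y, hy⟩ := Ideal.Quotient.mk_surjective (x i j)
    have h0 : Ideal.Quotient.factor hle (x i j) = 0 :=
      congrArg (fun Z : Matrix (Fin k) (Fin k) (A ⧸ L) => Z i j) (RingHom.mem_ker.1 hx)
    rw [← hy, Ideal.Quotient.factor_mk, Ideal.Quotient.eq_zero_iff_mem] at h0
    obtain ⟨N, hN⟩ := hnil y h0
    exact ⟨N, by rw [← hy, ← map_pow]; exact Ideal.Quotient.eq_zero_iff_mem.2 hN⟩
  let M' := (Ideal.Quotient.mk L).mapMatrix M
  have hM' : IsIdempotentElem M' := by
    change M' * M' = M'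
    rw [← sub_eq_zero, ← map_mul, ← map_sub]
    exact Matrix.ext fun i j => Ideal.Quotient.eq_zero_iff_mem.2 (hM i j)
  obtain ⟨e', he', he''⟩ := exists_isIdempotentElem_eq_of_ker_isNilpotent f hker M'
    ⟨(Ideal.Quotient.mk K').mapMatrix M, Matrix.ext fun i j => Ideal.Quotient.factor_mk hle _⟩ hM'
  choose E hE using fun i j => Ideal.Quotient.mk_surjective (e' i j)
  have hEe : (Ideal.Quotient.mk K').mapMatrix (Matrix.of E) = e' := Matrix.ext hE
  refine ⟨Matrix.of E, fun i j => ?_, fun i j => ?_⟩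
  · have : (Ideal.Quotient.mk K').mapMatrix (Matrix.of E * Matrix.of E - Matrix.of E) = 0 := by
      rw [map_sub, map_mul, hEe, he'.eq, sub_self]
    exact Ideal.Quotient.eq_zero_iff_mem.1 (congrFun (congrFun this i) j)
  · have h1 : Ideal.Quotient.factor hle (Ideal.Quotient.mk K' (E i j)) = Ideal.Quotient.mk L (M i j) := by
      rw [hE]; exact congrFun (congrFun he'' i) j
    rw [Ideal.Quotient.factor_mk, Ideal.Quotient.eq] at h1
    exact h1

variable (K : ℕ → Ideal A) (hK : Antitone K) (hbot : ∀ x : A, (∀ n, x ∈ K n) → x = 0)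
  (hprec : ∀ a : ℕ → A, (∀ n, a (n + 1) - a n ∈ K n) → ∃ L, ∀ n, L - a n ∈ K n)
  (J : Ideal A) (hJ : ∀ x ∈ J, ∀ n, ∃ N : ℕ, x ^ N ∈ K n)

include hK hbot hprec hJ

theorem le_jacobson : J ≤ Ideal.jacobson ⊥ := by
  intro x hx
  rw [Ideal.mem_jacobson_bot]
  intro y
  have hu : ∀ n, ∃ u, (x * y + 1) * u - 1 ∈ K n := fun n => by
    obtain ⟨N, hN⟩ := hJ _ (J.neg_mem_iff.2 (J.mul_mem_right y hx)) n
    refine ⟨∑ i ∈ Finset.range N, (-(x * y)) ^ i, ?_⟩
    have := mul_neg_geom_sum (-(x * y)) N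
    rw [sub_neg_eq_add, add_comm] at this
    rw [this, sub_sub_cancel_left]
    exact neg_mem hN
  choose u hu using hu
  obtain ⟨L, hL⟩ := hprec u fun n => by
    have h1 : u (n + 1) - u n = u n * ((x * y + 1) * u (n + 1) - 1) - u (n + 1) * ((x * y + 1) * u n - 1) := by
      ring
    rw [h1]
    exact sub_mem (Ideal.mul_mem_left _ _ (hK n.le_succ (hu (n + 1)))) (Ideal.mul_mem_left _ _ (hu n))
  refine IsUnit.of_mul_eq_one L (sub_eq_zero.1 (hbot _ fun n => ?_))
  rw [show (x * y + 1) * L - 1 = (x * y + 1) * (L - u n) + ((x * y + 1) * u n - 1) by ring]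
  exact add_mem (Ideal.mul_mem_left _ _ (hL n)) (hu n)

theorem exists_idem {k : ℕ} (e : Matrix (Fin k) (Fin k) A) (he : ∀ i j, (e * e - e) i j ∈ J) :
    ∃ E : Matrix (Fin k) (Fin k) A, E * E = E ∧ ∀ n i j, (E - e) i j ∈ K n ⊔ J := by
  classical
  have hnil : ∀ (n : ℕ), ∀ x ∈ K n ⊔ J, ∃ N : ℕ, x ^ N ∈ K n := fun n x hx => by
    obtain ⟨a, ha, b, hb, rfl⟩ := Submodule.mem_sup.1 hx
    obtain ⟨N, hN⟩ := hJ b hb n
    refine ⟨N, ?_⟩
    rw [← Ideal.Quotient.eq_zero_iff_mem, map_pow, map_add, Ideal.Quotient.eq_zero_iff_mem.2 ha,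
      zero_add, ← map_pow, Ideal.Quotient.eq_zero_iff_mem]
    exact hN
  let P := fun (n : ℕ) (E : Matrix (Fin k) (Fin k) A) =>
    (∀ i j, (E * E - E) i j ∈ K n) ∧ ∀ i j, (E - e) i j ∈ K n ⊔ J
  obtain ⟨E₀, h₀, h₀'⟩ := exists_idem_lift (K' := K 0) le_sup_left (hnil 0) e
    (fun i j => Ideal.mem_sup_right (he i j))
  have step : ∀ n E, P n E → ∃ E', P (n + 1) E' ∧ ∀ i j, (E' - E) i j ∈ K n := by
    intro n E ⟨hE, hEe⟩
    choose a ha b hb hab using fun i j => Submodule.mem_sup.1 (hEe i j)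
    let M : Matrix (Fin k) (Fin k) A := Matrix.of fun i j => E i j - a i j
    have hME : ∀ i j, (M - E) i j ∈ K n := fun i j => by
      simpa [M] using ha i j
    have hMe : ∀ i j, (M - e) i j ∈ J := fun i j => by
      have : (M - e) i j = b i j := by
        simp only [M, Matrix.sub_apply, Matrix.of_apply] at hab ⊢
        linear_combination -(hab i j)
      rw [this]; exact hb i j
    have hcong : ∀ (I : Ideal A) (M N : Matrix (Fin k) (Fin k) A), (∀ i j, (M - N) i j ∈ I) →
        (∀ i j, (N * N - N) i j ∈ I) → ∀ i j, (M * M - M) i j ∈ I := by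
      intro I M N h1 h2 i j
      have e1 : (Ideal.Quotient.mk I).mapMatrix M = (Ideal.Quotient.mk I).mapMatrix N :=
        Matrix.ext fun i j => Ideal.Quotient.eq.2 (h1 i j)
      have e2 : (Ideal.Quotient.mk I).mapMatrix (N * N - N) = 0 :=
        Matrix.ext fun i j => Ideal.Quotient.eq_zero_iff_mem.2 (h2 i j)
      have e3 : (Ideal.Quotient.mk I).mapMatrix (M * M - M) = 0 := by
        rw [map_sub, map_mul, e1, ← map_mul, ← map_sub, e2]
      exact Ideal.Quotient.eq_zero_iff_mem.1 (congrFun (congrFun e3 i) j)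
    obtain ⟨E', hE', hE'M⟩ := exists_idem_lift (L := K n ⊓ (K (n + 1) ⊔ J)) (K' := K (n + 1))
      (le_inf (hK n.le_succ) le_sup_left) (fun x hx => hnil (n + 1) x hx.2) M
      fun i j => ⟨hcong _ M E hME hE i j,
        Ideal.mem_sup_right (hcong J M e hMe he i j)⟩
    refine ⟨E', ⟨hE', fun i j => ?_⟩, fun i j => ?_⟩
    · have := add_mem (hE'M i j).2 (Ideal.mem_sup_right (S := K (n + 1)) (hMe i j))
      simpa using this
    · have := add_mem (hE'M i j).1 (hME i j)
      simpa using this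
  choose next hnext hnext' using step
  let S : ∀ n, {E // P n E} := fun n =>
    Nat.rec ⟨E₀, h₀, h₀'⟩ (fun m E => ⟨next m E.1 E.2, hnext m E.1 E.2⟩) n
  choose L hL using fun i j => hprec (fun n => (S n).1 i j) fun n => hnext' n (S n).1 (S n).2 i j
  have hcL : ∀ n, (Ideal.Quotient.mk (K n)).mapMatrix (Matrix.of L) =
      (Ideal.Quotient.mk (K n)).mapMatrix (S n).1 := fun n =>
    Matrix.ext fun i j => Ideal.Quotient.eq.2 (hL i j n)
  refine ⟨Matrix.of L, Matrix.ext fun i j => sub_eq_zero.1 (hbot _ fun n => ?_), fun n i j => ?_⟩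
  · have e3 : (Ideal.Quotient.mk (K n)).mapMatrix (Matrix.of L * Matrix.of L - Matrix.of L) = 0 := by
      rw [map_sub, map_mul, hcL, ← map_mul, ← map_sub]
      exact Matrix.ext fun i j => Ideal.Quotient.eq_zero_iff_mem.2 ((S n).2.1 i j)
    exact Ideal.Quotient.eq_zero_iff_mem.1 (congrFun (congrFun e3 i) j)
  · have := add_mem (Ideal.mem_sup_left (T := J) (hL i j n)) ((S n).2.2 i j)
    simpa using this

variable {B : Type u} [CommRing B] (φ : A →+* B) (hφ : Function.Surjective φ)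
  (hker : ∀ x, x ∈ J ↔ φ x = 0) (hB : ∀ b : B, (∀ n, b ∈ (K n).map φ) → b = 0)

include hφ hker hB

theorem exists_lift (P : Type u) [AddCommGroup P] [Module B P] [Module.Finite B P]
    [Module.Projective B P] :
    ∃ (P' : Type u) (_ : AddCommGroup P') (_ : Module A P'),
      Module.Finite A P' ∧ Module.Projective A P' ∧
        ∃ π : P' →ₛₗ[φ] P, Function.Surjective π ∧ LinearMap.ker π = J • (⊤ : Submodule A P') := by
  classical
  obtain ⟨k, π₀, σ, -, -, hπσ⟩ := Module.Finite.exists_comp_eq_id_of_projective B P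
  let eB : Matrix (Fin k) (Fin k) B := LinearMap.toMatrix' (σ ∘ₗ π₀)
  have heB : eB * eB = eB := by
    rw [← LinearMap.toMatrix'_comp]
    congr 1
    exact LinearMap.ext fun x => congrArg σ (LinearMap.congr_fun hπσ (π₀ x))
  choose e he using fun i j => hφ (eB i j)
  have hee : φ.mapMatrix (Matrix.of e) = eB := Matrix.ext he
  obtain ⟨E, hE, hEe⟩ := exists_idem K hK hbot hprec J hJ (Matrix.of e) fun i j => by
    rw [hker]
    have : φ.mapMatrix (Matrix.of e * Matrix.of e - Matrix.of e) = 0 := by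
      rw [map_sub, map_mul, hee, heB, sub_self]
    exact congrFun (congrFun this i) j
  have hφE : φ.mapMatrix E = eB := Matrix.ext fun i j => by
    rw [← he i j]
    refine sub_eq_zero.1 (hB _ fun n => ?_)
    obtain ⟨a, ha, b, hb, hab⟩ := Submodule.mem_sup.1 (hEe n i j)
    change φ (E i j) - φ (e i j) ∈ _
    rw [← map_sub, show E i j - e i j = a + b from hab.symm, map_add, (hker b).1 hb, add_zero]
    exact Ideal.mem_map_of_mem φ ha
  let l : (Fin k → A) →ₗ[A] (Fin k → A) := Matrix.toLin' E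
  let P' := LinearMap.range l
  let r : (Fin k → A) →ₗ[A] P' := l.rangeRestrict
  have hl : ∀ v, l (l v) = l v := fun v => by
    change Matrix.toLin' E (Matrix.toLin' E v) = Matrix.toLin' E v
    rw [← LinearMap.comp_apply, ← Matrix.toLin'_mul, hE]
  have hr : ∀ v : P', r v = v := fun ⟨v, w, hw⟩ => Subtype.ext (by
    change l v = v
    rw [← hw, hl])
  have hφl : ∀ v : Fin k → A, (fun i => φ (l v i)) = σ (π₀ fun i => φ (v i)) := fun v => by
    rw [← LinearMap.comp_apply, ← Matrix.toLin'_toMatrix' (σ ∘ₗ π₀)]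
    change _ = Matrix.toLin' eB _
    rw [← hφE, Matrix.toLin'_apply]
    funext i
    simp [l, Matrix.mulVec, dotProduct]
  let π : P' →ₛₗ[φ] P :=
    { toFun := fun v => π₀ fun i => φ (v.1 i)
      map_add' := fun v w => by
        rw [← map_add]
        congr 1
        funext i
        simp
      map_smul' := fun a v => by
        rw [← map_smul]
        congr 1
        funext i
        simp }
  refine ⟨P', inferInstance, inferInstance, Module.Finite.of_surjective r l.surjective_rangeRestrict,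
    Module.Projective.of_split P'.subtype r (LinearMap.ext hr), π, fun x => ?_,
    le_antisymm (fun v hv => ?_) ?_⟩
  · choose w hw using fun i => hφ (σ x i)
    refine ⟨r w, ?_⟩
    change π₀ (fun i => φ (l w i)) = x
    rw [hφl, funext hw]
    simp only [show ∀ y, π₀ (σ y) = y from LinearMap.congr_fun hπσ]
  · have h0 : ∀ i, φ (v.1 i) = 0 := fun i => by
      have h1 := congrFun (hφl v.1) i
      rw [show π₀ (fun i => φ (v.1 i)) = 0 from hv, map_zero] at h1
      rwa [show l v.1 = v.1 from congrArg Subtype.val (hr v)] at h1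
    rw [← hr v, show (v.1 : Fin k → A) = ∑ i, v.1 i • Pi.single i (1 : A) from pi_eq_sum_univ' v.1,
      map_sum]
    exact Submodule.sum_mem _ fun i _ => by
      rw [map_smul]; exact Submodule.smul_mem_smul ((hker _).2 (h0 i)) trivial
  · refine Submodule.smul_le.2 fun a ha v _ => ?_
    rw [LinearMap.mem_ker, LinearMap.map_smulₛₗ, (hker a).1 ha, zero_smul]

omit hB in
theorem lift_unique {P : Type v} [AddCommGroup P] [Module B P] (P₁ : Type u) [AddCommGroup P₁]
    [Module A P₁] [Module.Finite A P₁] [Module.Projective A P₁] (P₂ : Type u) [AddCommGroup P₂]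
    [Module A P₂] [Module.Finite A P₂] [Module.Projective A P₂] (π₁ : P₁ →ₛₗ[φ] P) (π₂ : P₂ →ₛₗ[φ] P)
    (hs₁ : Function.Surjective π₁) (hk₁ : LinearMap.ker π₁ = J • (⊤ : Submodule A P₁))
    (hs₂ : Function.Surjective π₂) (hk₂ : LinearMap.ker π₂ = J • (⊤ : Submodule A P₂)) :
    ∃ e : P₁ ≃ₗ[A] P₂, ∀ x : P₁, π₂ (e x) = π₁ x := by
  let := Module.compHom P φ
  let π₁' : P₁ →ₗ[A] P :=
    { toFun := π₁, map_add' := map_add π₁, map_smul' := fun a x => π₁.map_smulₛₗ a x }
  let π₂' : P₂ →ₗ[A] P :=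
    { toFun := π₂, map_add' := map_add π₂, map_smul' := fun a x => π₂.map_smulₛₗ a x }
  obtain ⟨f, hf⟩ := Module.projective_lifting_property π₂' π₁' hs₂
  obtain ⟨g, hg⟩ := Module.projective_lifting_property π₁' π₂' hs₁
  have hf' : ∀ x, π₂ (f x) = π₁ x := fun x => LinearMap.congr_fun hf x
  have hg' : ∀ x, π₁ (g x) = π₂ x := fun x => LinearMap.congr_fun hg x
  have hJ' := le_jacobson K hK hbot hprec J hJ
  have bij : ∀ (Q : Type u) [AddCommGroup Q] [Module A Q] [Module.Finite A Q] (π : Q →ₛₗ[φ] P),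
      LinearMap.ker π = J • (⊤ : Submodule A Q) → ∀ T : Q →ₗ[A] Q, (∀ x, π (T x) = π x) →
      Function.Bijective T := by
    intro Q _ _ _ π hπ T hT
    refine OrzechProperty.bijective_of_surjective_endomorphism T (LinearMap.range_eq_top.1 ?_)
    refine top_le_iff.1 (Submodule.le_of_le_smul_of_le_jacobson_bot Module.Finite.fg_top hJ' fun x _ => ?_)
    have h1 : x - T x ∈ J • (⊤ : Submodule A Q) := by
      rw [← hπ, LinearMap.mem_ker, map_sub, hT, sub_self]
    simpa using Submodule.add_mem_sup (LinearMap.mem_range_self T x) h1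
  have h1 := bij P₁ π₁ hk₁ (g ∘ₗ f) fun x => by rw [LinearMap.comp_apply, hg', hf']
  have h2 := bij P₂ π₂ hk₂ (f ∘ₗ g) fun x => by rw [LinearMap.comp_apply, hf', hg']
  exact ⟨LinearEquiv.ofBijective f ⟨Function.Injective.of_comp (f := g) h1.1,
    Function.Surjective.of_comp (g := g) h2.2⟩, hf'⟩

end Groth.Agent.FiltProjLib
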