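import Mathlib
import Groth.Agent.DispLib.NormalDecomp

/-!
Witt vectors over a ring with `p` nilpotent as a complete filtered ring.
-/

set_option autoImplicit false
universe u

namespace Groth.Agent.FiltProjLib

open WittVector W4c1extbt610

variable (p : ℕ) [Fact p.Prime] (R : Type u) [CommRing R]

/-- The kernels of truncation. -/
noncomputable abbrev wK (n : ℕ) : Ideal (WittVector p R) :=
  RingHom.ker (WittVector.truncate (p := p) (R := R) n)

lemma wK_anti : Antitone (wK p R) := fun m n h x hx => by
  rw [RingHom.mem_ker, ← TruncatedWittVector.truncate_wittVector_truncate h, RingHom.mem_ker.1 hx,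
    map_zero]

lemma wK_haus (x : WittVector p R) (h : ∀ n, x ∈ wK p R n) : x = 0 := by
  rw [← Ideal.mem_bot, ← TruncatedWittVector.iInf_ker_truncate, Ideal.mem_iInf]
  exact h

lemma wK_prec (a : ℕ → WittVector p R) (ha : ∀ n, a (n + 1) - a n ∈ wK p R n) :
    ∃ L, ∀ n, L - a n ∈ wK p R n := by
  have h : ∀ m n, m ≤ n → ∀ i < m, (a n).coeff i = (a m).coeff i := by
    intro m n hmn i hi
    induction hmn with
    | refl => rfl
    | @step j hj ih =>
      have h1 : WittVector.truncate j (a (j + 1)) = WittVector.truncate j (a j) := by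
        rw [← sub_eq_zero, ← map_sub]; exact ha j
      have h2 := congrArg (fun t => TruncatedWittVector.coeff ⟨i, lt_of_lt_of_le hi hj⟩ t) h1
      simp only [WittVector.coeff_truncate] at h2
      exact h2.trans ih
  refine ⟨WittVector.mk p fun i => (a (i + 1)).coeff i, fun n => ?_⟩
  rw [RingHom.mem_ker, map_sub, sub_eq_zero]
  refine TruncatedWittVector.ext fun i => ?_
  rw [WittVector.coeff_truncate, WittVector.coeff_truncate]
  exact (h (i + 1) n i.isLt i (Nat.lt_succ_self _)).symm

lemma mem_IV_of_mem_wK_one {x : WittVector p R} (hx : x ∈ wK p R 1) : x ∈ IV p R := by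
  rw [DispLib.IV_eq_ker, RingHom.mem_ker]
  exact (WittVector.mem_ker_truncate 1 x).1 hx 0 Nat.zero_lt_one

lemma wK_nil (hp : IsNilpotent (p : R)) (n : ℕ) : ∃ m, wK p R 1 ^ m ≤ wK p R n := by
  obtain ⟨j, hj⟩ := DispLib.natCast_pow_mem_ker_truncate (p := p) (R := R) hp n
  refine ⟨j + 1, le_trans (Ideal.pow_right_mono (fun x hx => mem_IV_of_mem_wK_one p R hx) _) ?_⟩
  refine (DispLib.IV_pow_le (p := p) (R := R) j).trans (Ideal.mul_le_left.trans ?_)
  rw [Ideal.span_singleton_pow, Ideal.span_le, Set.singleton_subset_iff]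
  exact hj

end Groth.Agent.FiltProjLib
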